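import Groth.Prelude.Def_BrSev
import Groth.Agent.S4805
import Groth.Agent.Lib.ProjSpace.BaseChange
import Groth.Agent.Lib.SBTaut.Amitsur.Main
import Mathlib.AlgebraicGeometry.AffineTransitionLimit
import Mathlib.RingTheory.Jacobson.Ring
import Mathlib.AlgebraicGeometry.GammaSpecAdjunction

/-!
# Splittings descend to finitely generated subalgebras
-/

set_option autoImplicit false
set_option linter.style.haveILetI false
set_option backward.isDefEq.respectTransparency false
universe u

open CategoryTheory CategoryTheory.Limits AlgebraicGeometry Opposite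

noncomputable section

namespace Groth.Agent.Lib.SBTaut.Descent

open Groth.Agent.Lib

variable (k K : Type u) [Field k] [Field K] [Algebra k K]

/-- Finite subextensions. -/
abbrev Sub' : Type u := {L : Subalgebra k K // L.FG}

instance : Nonempty (Sub' k K) := ⟨⟨⊥, Subalgebra.fg_bot⟩⟩

instance : IsDirectedOrder (Sub' k K) := ⟨fun L M =>
  ⟨⟨L.1 ⊔ M.1, L.2.sup M.2⟩, (le_sup_left : L.1 ≤ L.1 ⊔ M.1), (le_sup_right : M.1 ≤ L.1 ⊔ M.1)⟩⟩

/-- The diagram of finite subextensions. -/
noncomputable def ringDiag : Sub' k K ⥤ CommRingCat.{u} where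
  obj L := CommRingCat.of L.1
  map {L M} h := CommRingCat.ofHom (Subalgebra.inclusion (leOfHom h : L ≤ M)).toRingHom
  map_id L := by ext x; rfl
  map_comp _ _ := by ext x; rfl

/-- Its cocone. -/
noncomputable def ringCocone : Cocone (ringDiag k K) where
  pt := CommRingCat.of K
  ι := { app := fun L => CommRingCat.ofHom (algebraMap L.1 K)
         naturality := fun L M h => by ext x; rfl }

theorem exists_mem (x : K) : ∃ L : Sub' k K, x ∈ L.1 :=
  ⟨⟨Algebra.adjoin k {x}, ⟨{x}, by simp⟩⟩, Algebra.self_mem_adjoin_singleton k x⟩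

/-- An algebraic extension is the colimit of its finite subextensions. -/
noncomputable def isColimit : IsColimit (ringCocone k K) := by
  choose L hL using exists_mem k K
  have key : ∀ (s : Cocone (ringDiag k K)) (M N : Sub' k K) (x : K) (hM : x ∈ M.1) (hN : x ∈ N.1),
      (s.ι.app M).hom ⟨x, hM⟩ = (s.ι.app N).hom ⟨x, hN⟩ := by
    intro s M N x hM hN
    obtain ⟨P, hMP, hNP⟩ := exists_ge_ge M N
    have h1 := ConcreteCategory.congr_hom (s.w (homOfLE hMP)) (⟨x, hM⟩ : M.1)
    have h2 := ConcreteCategory.congr_hom (s.w (homOfLE hNP)) (⟨x, hN⟩ : N.1)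
    exact h1.symm.trans h2
  let d : ∀ s : Cocone (ringDiag k K), K →+* s.pt := fun s =>
    { toFun := fun x => (s.ι.app (L x)).hom ⟨x, hL x⟩
      map_one' := (key s _ (L 1) 1 (hL 1) (one_mem _)).trans (map_one (s.ι.app (L 1)).hom)
      map_zero' := (key s _ (L 0) 0 (hL 0) (zero_mem _)).trans (map_zero (s.ι.app (L 0)).hom)
      map_add' := fun x y => by
        obtain ⟨P, hx, hy⟩ := exists_ge_ge (L x) (L y)
        rw [key s _ P x (hL x) (hx (hL x)), key s _ P y (hL y) (hy (hL y)),
          key s _ P (x + y) (hL _) (add_mem (hx (hL x)) (hy (hL y)))]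
        exact map_add (s.ι.app P).hom ⟨x, hx (hL x)⟩ ⟨y, hy (hL y)⟩
      map_mul' := fun x y => by
        obtain ⟨P, hx, hy⟩ := exists_ge_ge (L x) (L y)
        rw [key s _ P x (hL x) (hx (hL x)), key s _ P y (hL y) (hy (hL y)),
          key s _ P (x * y) (hL _) (mul_mem (hx (hL x)) (hy (hL y)))]
        exact map_mul (s.ι.app P).hom ⟨x, hx (hL x)⟩ ⟨y, hy (hL y)⟩ }
  exact
    { desc := fun s => CommRingCat.ofHom (d s)
      fac := fun s M => by
        refine CommRingCat.hom_ext (RingHom.ext fun x => ?_)
        exact key s _ M x.1 (hL x.1) x.2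
      uniq := fun s m hm => by
        refine CommRingCat.hom_ext (RingHom.ext fun x => ?_)
        exact ConcreteCategory.congr_hom (hm (L x)) (⟨x, hL x⟩ : (L x).1) }

variable {k K} {X : Scheme.{u}} (f : X ⟶ Spec (CommRingCat.of k))

/-- The base changes of `X` to the finite subextensions. -/
noncomputable def diag : (Sub' k K)ᵒᵖ ⥤ Scheme.{u} where
  obj L := pullback f (Spec.map (CommRingCat.ofHom (algebraMap k L.unop.1)))
  map {L M} h := pullback.map _ _ _ _ (𝟙 X) (Spec.map ((ringDiag k K).map h.unop)) (𝟙 _) (by simp)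
    (by rw [Category.comp_id, ← Spec.map_comp]; congr 1)
  map_id L := by
    apply pullback.hom_ext
    · simp
    · simp
      erw [Spec.map_id, Category.comp_id]
  map_comp {L M N} g h := by
    apply pullback.hom_ext <;> simp [Spec.map_comp]

/-- The cone of the base change to `K`. -/
noncomputable def cone : Cone (diag (K := K) f) where
  pt := pullback f (Spec.map (CommRingCat.ofHom (algebraMap k K)))
  π :=
    { app := fun L => pullback.map _ _ _ _ (𝟙 X) (Spec.map ((ringCocone k K).ι.app L.unop)) (𝟙 _)
        (by simp) (by rw [Category.comp_id, ← Spec.map_comp]; congr 1)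
      naturality := fun L M h => by
        apply pullback.hom_ext <;> simp [diag, ← Spec.map_comp] }

/-- It is a limit. -/
noncomputable def isLimit : IsLimit (cone (K := K) f) := by
  let hS : IsLimit (Scheme.Spec.mapCone (ringCocone k K).op) :=
    isLimitOfPreserves Scheme.Spec (isColimit k K).op
  let L₀ : (Sub' k K)ᵒᵖ := Opposite.op ⟨⊥, Subalgebra.fg_bot⟩
  haveI : IsCofiltered (Sub' k K)ᵒᵖ := isCofiltered_op_of_isFiltered _
  have hconst : ∀ (s : Cone (diag (K := K) f)) (L M : (Sub' k K)ᵒᵖ),
      s.π.app L ≫ pullback.fst _ _ = s.π.app M ≫ pullback.fst _ _ := by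
    intro s L M
    obtain ⟨N, a, b, -⟩ := IsCofilteredOrEmpty.cone_objs L M
    rw [← s.w a, ← s.w b, Category.assoc, Category.assoc]
    congr 1
    simp [diag]
  let sn : ∀ _ : Cone (diag (K := K) f), Cone ((ringDiag k K).op ⋙ Scheme.Spec) := fun s =>
    { pt := s.pt
      π :=
        { app := fun L => s.π.app L ≫ pullback.snd _ _
          naturality := fun L M a => by
            change 𝟙 s.pt ≫ s.π.app M ≫ pullback.snd _ _ = (s.π.app L ≫ pullback.snd _ _) ≫ _
            rw [← s.w a]
            simp [diag] } }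
  refine
    { lift := fun s => pullback.lift (s.π.app L₀ ≫ pullback.fst _ _) (hS.lift (sn s)) ?_
      fac := fun s L => ?_
      uniq := fun s m hm => ?_ }
  · have e : Spec.map (CommRingCat.ofHom (algebraMap k K)) =
        Spec.map ((ringCocone k K).ι.app L₀.unop) ≫ Spec.map (CommRingCat.ofHom (algebraMap k L₀.unop.1)) := by
      rw [← Spec.map_comp]; congr 1
    rw [e, ← Category.assoc]
    have := hS.fac (sn s) L₀
    erw [this]
    rw [Category.assoc, Category.assoc, ← pullback.condition]
  · apply pullback.hom_ext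
    · simpa [cone] using hconst s L₀ L
    · simp only [cone, Category.assoc, pullback.lift_snd, pullback.lift_snd_assoc]
      exact hS.fac (sn s) L
  · apply pullback.hom_ext
    · rw [pullback.lift_fst, ← hm L₀]
      simp [cone]
    · rw [pullback.lift_snd]
      refine hS.hom_ext fun L => ?_
      rw [hS.fac]
      change _ = s.π.app L ≫ pullback.snd _ _
      rw [← hm L]
      simp [cone]

instance isAffineHom_map (L M : (Sub' k K)ᵒᵖ) (h : L ⟶ M) : IsAffineHom ((diag (K := K) f).map h) := by
  have hsq : IsPullback ((diag (K := K) f).map h) (pullback.snd _ _) (pullback.snd _ _)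
      (Spec.map ((ringDiag k K).map h.unop)) := by
    refine IsPullback.of_right ?_ (by simp [diag]) (IsPullback.of_hasPullback f _).flip.flip
    convert IsPullback.of_hasPullback f (Spec.map (CommRingCat.ofHom (algebraMap k L.unop.1))) using 1
    all_goals first | (simp [diag]; done) | (rw [← Spec.map_comp]; congr 1)
  exact MorphismProperty.of_isPullback (P := @IsAffineHom) hsq.flip inferInstance


end Groth.Agent.Lib.SBTaut.Descent
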