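import Groth.Agent.Lib.SBTaut.Descent.Limit

/-!
# A splitting over any field gives a splitting over a residue field of a finitely generated subalgebra
-/

set_option autoImplicit false
set_option linter.style.haveILetI false
set_option backward.isDefEq.respectTransparency false
universe u

open CategoryTheory CategoryTheory.Limits AlgebraicGeometry Opposite

noncomputable section

namespace Groth.Agent.Lib.SBTaut.Descent

open Groth.Agent.Lib

variable {k : Type u} [Field k] {X : Scheme.{u}} {f : X ⟶ Spec (CommRingCat.of k)}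
  {K : Type u} [Field K] [Algebra k K] {n : ℕ}

/-- A splitting over `K` spreads out over a finitely generated subalgebra. -/
theorem exists_fg_splitting (e : BrSev.Splitting f K n) :
    ∃ A : Subalgebra k K, A.FG ∧ ∀ (F : Type u) [Field F] [Algebra k F] (τ : A →ₐ[k] F),
      Nonempty (BrSev.Splitting f F n) := by
  haveI : IsProper f := SBTaut.Amitsur.isProper_of_splitting e
  haveI : IsCofiltered (Sub' k K)ᵒᵖ := isCofiltered_op_of_isFiltered _
  haveI : ∀ i : (Sub' k K)ᵒᵖ, CompactSpace ↥((Descent.diag (K := K) f).obj i) := fun i =>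
    have h : CompactSpace ↥(pullback f (Spec.map (CommRingCat.ofHom (algebraMap k i.unop.1)))) :=
      QuasiCompact.compactSpace_of_compactSpace (pullback.snd f _)
    h
  haveI : ∀ i : (Sub' k K)ᵒᵖ, QuasiSeparatedSpace ↥((Descent.diag (K := K) f).obj i) := fun i =>
    have h : QuasiSeparatedSpace ↥(pullback f (Spec.map (CommRingCat.ofHom (algebraMap k i.unop.1)))) :=
      quasiSeparatedSpace_of_quasiSeparated (pullback.snd f _)
    h
  haveI : LocallyOfFinitePresentation f := LocallyOfFinitePresentation.iff_locallyOfFiniteType.2 inferInstance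
  haveI : IsProper (CohB1.ProjSpace.toSpec n k) := inferInstance
  haveI : LocallyOfFinitePresentation (CohB1.ProjSpace.toSpec n k) :=
    LocallyOfFinitePresentation.iff_locallyOfFiniteType.2 inferInstance
  -- descend the morphism
  let pmK := ProjSpace.BaseChange.projMap n (algebraMap k K)
  have hpK := ProjSpace.BaseChange.isPullback_projMap n (algebraMap k K)
  let t : Descent.diag (K := K) f ⟶ (Functor.const _).obj (Spec (CommRingCat.of k)) :=
    { app := fun L => pullback.fst _ _ ≫ f
      naturality := fun L M h => by simp [Descent.diag] }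
  have ha : (Descent.cone (K := K) f).π ≫ t = (Functor.const _).map ((e.iso.hom ≫ pmK) ≫ CohB1.ProjSpace.toSpec n k) := by
    ext L
    show (Descent.cone (K := K) f).π.app L ≫ pullback.fst _ _ ≫ f = _
    refine ((Category.assoc _ _ _).symm.trans (congrArg (· ≫ f) ((pullback.lift_fst _ _ _).trans (Category.comp_id _)))).trans ?_
    show pullback.fst f _ ≫ f = (e.iso.hom ≫ pmK) ≫ CohB1.ProjSpace.toSpec n k
    rw [Category.assoc, hpK.w, ← Category.assoc, e.comm]
    exact pullback.condition
  obtain ⟨i, g, hg1, hg2⟩ := Scheme.exists_π_app_comp_eq_of_locallyOfFinitePresentation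
    (Descent.diag (K := K) f) t (CohB1.ProjSpace.toSpec n k) (Descent.cone (K := K) f) (Descent.isLimit f) (e.iso.hom ≫ pmK) ha
  change pullback f (Spec.map (CommRingCat.ofHom (algebraMap k i.unop.1))) ⟶ _ at g
  change g ≫ CohB1.ProjSpace.toSpec n k = pullback.fst _ _ ≫ f at hg2
  let A₀ := i.unop.1
  let σ₀ : Spec (CommRingCat.of A₀) ⟶ Spec (CommRingCat.of k) := Spec.map (CommRingCat.ofHom (algebraMap k A₀))
  have hpA := ProjSpace.BaseChange.isPullback_projMap n (algebraMap k A₀)
  let pmA := ProjSpace.BaseChange.projMap n (algebraMap k A₀)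
  let f₀ : pullback f σ₀ ⟶ CohB1.ProjSpace n A₀ :=
    hpA.lift g (pullback.snd f σ₀) (hg2.trans pullback.condition)
  let g₀ := CohB1.ProjSpace.toSpec n A₀
  have hf₀1 : f₀ ≫ pmA = g := hpA.lift_fst _ _ _
  have hf₀2 : f₀ ≫ g₀ = pullback.snd f σ₀ := hpA.lift_snd _ _ _
  -- the data for the descent of isomorphisms
  let D := (ringDiag k K).op ⋙ Scheme.Spec
  let c : Cone D := Scheme.Spec.mapCone (ringCocone k K).op
  have hc : IsLimit c := isLimitOfPreserves Scheme.Spec (Descent.isColimit k K).op
  haveI : ∀ (a b : (Sub' k K)ᵒᵖ) (h : a ⟶ b), IsAffineHom (D.map h) := fun a b h =>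
    inferInstanceAs (IsAffineHom (Spec.map _))
  haveI : CompactSpace (D.obj i) := inferInstanceAs (CompactSpace (Spec (CommRingCat.of A₀)))
  let πi : Spec (CommRingCat.of K) ⟶ Spec (CommRingCat.of A₀) :=
    Spec.map (CommRingCat.ofHom (algebraMap A₀ K))
  have hσ : πi ≫ σ₀ = Spec.map (CommRingCat.ofHom (algebraMap k K)) := by
    rw [← Spec.map_comp]; rfl
  let qX : BrSev.bc f K ⟶ pullback f σ₀ := (Descent.cone (K := K) f).π.app i
  have hqX1 : qX ≫ pullback.fst f σ₀ = BrSev.proj f K :=
    (pullback.lift_fst _ _ _).trans (Category.comp_id _)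
  have hqX2 : qX ≫ pullback.snd f σ₀ = BrSev.bcTo f K ≫ πi := pullback.lift_snd _ _ _
  let qY : CohB1.ProjSpace n K ⟶ CohB1.ProjSpace n A₀ :=
    hpA.lift pmK (CohB1.ProjSpace.toSpec n K ≫ πi) (by rw [Category.assoc, hσ]; exact hpK.w)
  have hqY1 : qY ≫ pmA = pmK := hpA.lift_fst _ _ _
  have hqY2 : qY ≫ g₀ = CohB1.ProjSpace.toSpec n K ≫ πi := hpA.lift_snd _ _ _
  have hY : IsPullback qY (CohB1.ProjSpace.toSpec n K) g₀ πi := by
    refine IsPullback.of_right ?_ hqY2 hpA
    rw [hqY1, hσ]; exact hpK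
  have hX : IsPullback qX e.iso.hom f₀ qY := by
    refine IsPullback.of_bot ?_ ?_ hY
    · rw [hf₀2, e.comm]
      refine IsPullback.of_right ?_ hqX2 (IsPullback.of_hasPullback f σ₀)
      rw [hqX1, hσ]; exact IsPullback.of_hasPullback _ _
    · apply hpA.hom_ext
      · refine (Category.assoc _ _ _).trans ((congrArg (qX ≫ ·) hf₀1).trans (hg1.trans ?_))
        exact ((Category.assoc _ _ _).trans (congrArg (e.iso.hom ≫ ·) hqY1)).symm
      · refine (Category.assoc _ _ _).trans ((congrArg (qX ≫ ·) hf₀2).trans (hqX2.trans ?_))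
        refine Eq.trans ?_ ((Category.assoc _ _ _).trans (congrArg (e.iso.hom ≫ ·) hqY2)).symm
        exact (congrArg (· ≫ πi) e.comm).symm.trans (Category.assoc _ _ _)
  haveI : LocallyOfFiniteType g₀ := MorphismProperty.of_isPullback hpA inferInstance
  haveI : QuasiCompact g₀ := MorphismProperty.of_isPullback hpA inferInstance
  haveI : QuasiSeparated g₀ := MorphismProperty.of_isPullback hpA inferInstance
  haveI : LocallyOfFinitePresentation (f₀ ≫ g₀) := by
    rw [hf₀2]; exact MorphismProperty.pullback_snd f σ₀ inferInstance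
  haveI : QuasiCompact (f₀ ≫ g₀) := by rw [hf₀2]; exact MorphismProperty.pullback_snd f σ₀ inferInstance
  haveI : QuasiSeparated (f₀ ≫ g₀) := by rw [hf₀2]; exact MorphismProperty.pullback_snd f σ₀ inferInstance
  obtain ⟨j, φ, Xj, Yj, fj, gj, pY, pX, hYj, hXj, hiso⟩ :=
    Groth.Agent.S4805.result D c hc i f₀ g₀ e.iso.hom (CohB1.ProjSpace.toSpec n K) qY qX hY hX
  refine ⟨j.unop.1, j.unop.2, fun F _ _ τ => ?_⟩
  haveI := hiso
  let σj : Spec (CommRingCat.of j.unop.1) ⟶ Spec (CommRingCat.of k) :=
    Spec.map (CommRingCat.ofHom (algebraMap k j.unop.1))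
  change IsPullback pY gj g₀ (Spec.map ((ringDiag k K).map φ.unop)) at hYj
  have hσj : Spec.map ((ringDiag k K).map φ.unop) ≫ σ₀ = σj := by
    rw [← Spec.map_comp]; rfl
  -- both are base changes to the stage
  have h1 : IsPullback (pY ≫ pmA) gj (CohB1.ProjSpace.toSpec n k) σj := hσj ▸ hYj.paste_horiz hpA
  have h2 : IsPullback (pX ≫ pullback.fst f σ₀) (fj ≫ gj) f σj := by
    have h := hXj.paste_vert hYj
    rw [hf₀2] at h
    exact hσj ▸ h.paste_horiz (IsPullback.of_hasPullback f σ₀)
  have h2' : IsPullback (inv fj ≫ pX ≫ pullback.fst f σ₀) gj f σj :=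
    h2.of_iso (asIso fj) (Iso.refl _) (Iso.refl _) (Iso.refl _) (by simp) (by simp) (by simp) (by simp)
  let sF : Spec (CommRingCat.of F) ⟶ Spec (CommRingCat.of j.unop.1) :=
    Spec.map (CommRingCat.ofHom τ.toRingHom)
  have hsF : sF ≫ σj = Spec.map (CommRingCat.ofHom (algebraMap k F)) := by
    rw [← Spec.map_comp]
    exact congrArg Spec.map (CommRingCat.hom_ext (RingHom.ext fun r => τ.commutes r))
  have hP := hsF ▸ (IsPullback.of_hasPullback gj sF).paste_horiz h1
  have hXF := hsF ▸ (IsPullback.of_hasPullback gj sF).paste_horiz h2'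
  have hp' := ProjSpace.BaseChange.isPullback_projMap n (algebraMap k F)
  refine ⟨⟨hXF.isoPullback.symm ≪≫ hP.isoPullback ≪≫ hp'.isoPullback.symm, ?_⟩⟩
  simp only [Iso.trans_hom, Iso.symm_hom, Category.assoc, hp'.isoPullback_inv_snd, hP.isoPullback_hom_snd,
    hXF.isoPullback_inv_snd]

/-- A splitting over any field gives one over a finite extension. -/
theorem exists_finite_splitting (e : BrSev.Splitting f K n) :
    ∃ (F : Type u) (_ : Field F) (_ : Algebra k F), Module.Finite k F ∧
      Nonempty (BrSev.Splitting f F n) := by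
  obtain ⟨A, hA, h⟩ := exists_fg_splitting e
  haveI : Algebra.FiniteType k A := A.fg_iff_finiteType.1 hA
  obtain ⟨m, hm⟩ := Ideal.exists_maximal A
  letI : Field (A ⧸ m) := Ideal.Quotient.field m
  haveI : Algebra.FiniteType k (A ⧸ m) := Algebra.FiniteType.of_surjective (Ideal.Quotient.mkₐ k m)
    Ideal.Quotient.mk_surjective
  exact ⟨A ⧸ m, inferInstance, inferInstance, finite_of_finite_type_of_isJacobsonRing k (A ⧸ m),
    h (A ⧸ m) (Ideal.Quotient.mkₐ k m)⟩

end Groth.Agent.Lib.SBTaut.Descent
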