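import Groth.Agent.Lib.SBTaut.Descent.Main
import Groth.Agent.Lib.SBTaut.Point.Main
import Groth.Agent.Lib.GrpQ.Points
import Groth.Prelude.Def_W4bk4gw11416BS
import Mathlib.FieldTheory.IsSepClosed
import Mathlib.FieldTheory.Normal.Closure
import Mathlib.FieldTheory.Galois.Basic

/-!
# Rational points and Galois splittings of Brauer–Severi schemes
-/

set_option autoImplicit false
set_option linter.style.haveILetI false
universe u

open CategoryTheory CategoryTheory.Limits AlgebraicGeometry

noncomputable section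

namespace Groth.Agent.Lib.SBTaut.Descent

open Groth.Agent.Lib

variable {k : Type u} [Field k] {X : Scheme.{u}} {f : X ⟶ Spec (CommRingCat.of k)}

theorem exists_splitting (h : W4bk4gw11416.IsBrauerSeveri f) :
    ∃ (K : Type u) (_ : Field K) (_ : Algebra k K) (n : ℕ), Nonempty (BrSev.Splitting f K n) := by
  obtain ⟨K, _, _, n, e, he⟩ := h
  exact ⟨K, inferInstance, inferInstance, n, ⟨⟨e, he⟩⟩⟩

theorem nonempty_splitting_algClosed {K : Type u} [Field K] [Algebra k K] {n : ℕ}
    (e : BrSev.Splitting f K n) (Ω : Type u) [Field Ω] [Algebra k Ω] [IsAlgClosed Ω] :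
    Nonempty (BrSev.Splitting f Ω n) := by
  obtain ⟨F, _, _, hF, ⟨e'⟩⟩ := exists_finite_splitting e
  let φ : F →ₐ[k] Ω := IsAlgClosed.lift
  letI : Algebra F Ω := φ.toRingHom.toAlgebra
  haveI : IsScalarTower k F Ω := IsScalarTower.of_algebraMap_eq fun x => (φ.commutes x).symm
  obtain ⟨e'', -⟩ := Compare.exists_extend e' Ω
  exact ⟨e''⟩

theorem isProjSpaceOver_of_splitting {n : ℕ} (e : BrSev.Splitting f k n) :
    W4bk4gw11416.IsProjSpaceOver f n := by
  have hone : Spec.map (CommRingCat.ofHom (algebraMap k k)) = 𝟙 _ := by rw [← Spec.map_id]; rfl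
  haveI : IsIso (Spec.map (CommRingCat.ofHom (algebraMap k k))) := by rw [hone]; infer_instance
  refine ⟨(asIso (BrSev.proj f k)).symm ≪≫ e.iso, ?_⟩
  show (inv (BrSev.proj f k) ≫ e.iso.hom) ≫ _ = _
  rw [Category.assoc, e.comm, IsIso.inv_comp_eq]
  exact ((congrArg (BrSev.bcTo f k ≫ ·) hone).trans (Category.comp_id _)).symm.trans pullback.condition.symm

theorem isProjSpaceOver_of_point (h : W4bk4gw11416.IsBrauerSeveri f) (s : Spec (CommRingCat.of k) ⟶ X)
    (hs : s ≫ f = 𝟙 _) : ∃ n, W4bk4gw11416.IsProjSpaceOver f n := by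
  obtain ⟨K, _, _, n, ⟨e⟩⟩ := exists_splitting h
  haveI : IsProper f := Amitsur.isProper_of_splitting e
  obtain ⟨e'⟩ := nonempty_splitting_algClosed e (AlgebraicClosure k)
  obtain ⟨e₁⟩ := Point.nonempty_splitting_of_point f e' s hs
  exact ⟨n, isProjSpaceOver_of_splitting e₁⟩

/-- Split over a separable closure. -/
theorem nonempty_splitting_sepClosure {K : Type u} [Field K] [Algebra k K] {n : ℕ}
    (e : BrSev.Splitting f K n) : Nonempty (BrSev.Splitting f (SeparableClosure k) n) := by
  let Ks := SeparableClosure k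
  haveI : IsProper f := Amitsur.isProper_of_splitting e
  haveI : GeometricallyIntegral f :=
    Stable.geometricallyIntegral_of_split f n fun Ω _ _ _ => nonempty_splitting_algClosed e Ω
  let p := BrSev.bcTo f Ks
  haveI : IsProper p := MorphismProperty.pullback_snd f _ ‹_›
  haveI : GeometricallyIntegral p := MorphismProperty.pullback_snd f _ ‹_›
  let Ω := AlgebraicClosure Ks
  obtain ⟨eΩ⟩ := nonempty_splitting_algClosed e Ω
  have sq : IsPullback (pullback.fst p (Spec.map (CommRingCat.ofHom (algebraMap Ks Ω))) ≫ BrSev.proj f Ks)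
      (BrSev.bcTo p Ω) f (Spec.map (CommRingCat.ofHom (algebraMap k Ω))) := by
    have h := (IsPullback.of_hasPullback p (Spec.map (CommRingCat.ofHom (algebraMap Ks Ω)))).paste_horiz
      (IsPullback.of_hasPullback f (Spec.map (CommRingCat.ofHom (algebraMap k Ks))))
    rwa [← Spec.map_comp, ← CommRingCat.ofHom_comp, ← IsScalarTower.algebraMap_eq] at h
  let ep : BrSev.Splitting p Ω n := ⟨sq.isoPullback ≪≫ eΩ.iso, by
    rw [Iso.trans_hom, Category.assoc, eΩ.comm, sq.isoPullback_hom_snd]⟩
  haveI : Nonempty (BrSev.bc f Ks) :=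
    ⟨pullback.fst p _ (ep.iso.inv (Classical.arbitrary _))⟩
  haveI : GeometricallyReduced p := inferInstance
  obtain ⟨s, hs⟩ := GrpQ.exists_section p
  obtain ⟨e₁⟩ := Point.nonempty_splitting_of_point p ep s hs
  have hone : Spec.map (CommRingCat.ofHom (algebraMap Ks Ks)) = 𝟙 _ := by rw [← Spec.map_id]; rfl
  haveI : IsIso (Spec.map (CommRingCat.ofHom (algebraMap Ks Ks))) := by rw [hone]; infer_instance
  refine ⟨⟨(asIso (BrSev.proj p Ks)).symm ≪≫ e₁.iso, ?_⟩⟩
  show (inv (BrSev.proj p Ks) ≫ e₁.iso.hom) ≫ _ = _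
  rw [Category.assoc, e₁.comm, IsIso.inv_comp_eq]
  exact ((congrArg (BrSev.bcTo p Ks ≫ ·) hone).trans (Category.comp_id _)).symm.trans pullback.condition.symm

/-- Split over a finite Galois extension. -/
theorem exists_galois (h : W4bk4gw11416.IsBrauerSeveri f) :
    ∃ (K : Type u) (_ : Field K) (_ : Algebra k K), FiniteDimensional k K ∧ IsGalois k K ∧
      ∃ n : ℕ, W4bk4gw11416.IsProjSpaceOver (W4bk4gw11416.baseChangeTo f K) n := by
  obtain ⟨K, _, _, n, ⟨e⟩⟩ := exists_splitting h
  obtain ⟨es⟩ := nonempty_splitting_sepClosure e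
  obtain ⟨A, hA, hAe⟩ := exists_fg_splitting es
  let Ks := SeparableClosure k
  obtain ⟨S, hS⟩ := hA
  let L₀ : IntermediateField k Ks := IntermediateField.adjoin k (S : Set Ks)
  haveI : FiniteDimensional k L₀ :=
    IntermediateField.finiteDimensional_adjoin fun x _ => Algebra.IsIntegral.isIntegral x
  let L : IntermediateField k Ks := IntermediateField.normalClosure k L₀ Ks
  haveI : FiniteDimensional k L := normalClosure.is_finiteDimensional k L₀ Ks
  haveI : IsGalois k L := IsGalois.normalClosure k L₀ Ks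
  have hle : A ≤ L.toSubalgebra := by
    rw [← hS]
    refine Algebra.adjoin_le fun x hx => ?_
    exact L₀.le_normalClosure (IntermediateField.subset_adjoin k _ hx)
  obtain ⟨eL⟩ := hAe L (Subalgebra.inclusion hle)
  exact ⟨L, inferInstance, inferInstance, inferInstance, inferInstance, n, eL.iso, eL.comm⟩

end Groth.Agent.Lib.SBTaut.Descent
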